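import Groth.Agent.L25.MonoClosed.Torus
import Groth.Agent.L25.SplitSub.Image
import Groth.Agent.L25.HomLocus.Main
import Groth.Agent.L25.Central
import Groth.Agent.L23.Descent
import Mathlib.AlgebraicGeometry.ValuativeCriterion
import Mathlib.AlgebraicGeometry.Morphisms.Finite
import Mathlib.LinearAlgebra.FreeModule.PID

/-!
# Monomorphisms from groups of multiplicative type into separated groups of finite type are closed immersions
-/

set_option autoImplicit false
universe u

open CategoryTheory CategoryTheory.Limits MonoidalCategory CartesianMonoidalCategory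
open AlgebraicGeometry Opposite
open scoped MonObj

set_option backward.isDefEq.respectTransparency.types false
set_option linter.style.haveILetI false

noncomputable section

namespace Groth.L25.MonoClosed

open Cocycle SplitSub

variable {S : Scheme.{u}}

theorem isMonHom_pullbackMap {U : Scheme.{u}} (g : U ⟶ S) {X Y : Over S} [GrpObj X] [GrpObj Y] (f : X ⟶ Y)
    [IsMonHom f] : IsMonHom ((Over.pullback g).map f) :=
  ((Over.pullback g).mapGrp.map (Grp.homMk'' (A := Grp.mk X) (B := Grp.mk Y) f
    (IsMonHom.one_hom f) (IsMonHom.mul_hom f))).hom.isMonHom_hom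

theorem isMonHom_comp' {X Y Z : Over S} [GrpObj X] [GrpObj Y] [GrpObj Z] {a : X ⟶ Y} {b : Y ⟶ Z}
    (ha : IsMonHom a) (hb : IsMonHom b) : IsMonHom (a ≫ b) := inferInstance

variable {R K : Type u} [CommRing R] [IsDomain R] [ValuationRing R] [Field K] [Algebra R K] [IsFractionRing R K]

/-- the generic character of an integral point in the image of a monomorphism is integral -/
theorem val_eq_one {b : Spec (CommRingCat.of R) ⟶ S} {M : Type} [AddCommGroup M] [hM : Module.Finite ℤ M]
    {G : Over S} [GrpObj G] [LocallyOfFiniteType G.hom] [QuasiCompact G.hom]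
    {u : Red.DS S M ⟶ G} [IsMonHom u] [Mono u] (χ : Multiplicative M →* K) {x : X b R ⟶ G}
    (hx : mor b (Algebra.ofId R K) ≫ x = imgPt b u χ) :
    ∀ m, ValuationRing.valuation R K (χ m) = 1 := by
  classical
  let v := ValuationRing.valuation R K
  have hχ0 : ∀ m, v (χ m) ≠ 0 := fun m => v.ne_zero_iff.2 ((Group.isUnit m).map χ).ne_zero
  let M₀ : Submodule ℤ M := AddSubgroup.toIntSubmodule
    { carrier := {m | v (χ (Multiplicative.ofAdd m)) = 1}
      zero_mem' := by simp [v]
      add_mem' := fun {a c} ha hc => by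
        show v (χ (Multiplicative.ofAdd (a + c))) = 1
        rw [ofAdd_add, map_mul, map_mul, ha, hc, _root_.one_mul]
      neg_mem' := fun {a} ha => by
        show v (χ (Multiplicative.ofAdd (-a))) = 1
        have h : v (χ (Multiplicative.ofAdd (-a))) * v (χ (Multiplicative.ofAdd a)) = 1 := by
          rw [← map_mul, ← map_mul, ← ofAdd_add, neg_add_cancel, ofAdd_zero, map_one, map_one]
        rw [ha, _root_.mul_one] at h
        exact h }
  have hmem : ∀ m, m ∈ M₀ ↔ v (χ (Multiplicative.ofAdd m)) = 1 := fun m => Iff.rfl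
  have hsat : ∀ (n : ℤ) (m : M), n ≠ 0 → n • m ∈ M₀ → m ∈ M₀ := by
    intro n m hn hm
    have key : ∀ k : ℕ, k ≠ 0 → k • m ∈ M₀ → m ∈ M₀ := by
      intro k hk h
      rw [hmem, ofAdd_nsmul, map_pow, map_pow] at h
      exact (hmem m).2 ((pow_eq_one_iff_of_nonneg zero_le' hk).1 h)
    rcases Int.natAbs_eq n with h | h
    · exact key n.natAbs (by omega) (by rwa [← natCast_zsmul, ← h])
    · exact key n.natAbs (by omega) (by rw [← natCast_zsmul, show (n.natAbs : ℤ) = -n by omega, neg_smul]; exact M₀.neg_mem hm)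
  have : Module.IsTorsionFree ℤ (M ⧸ M₀) := Module.IsTorsionFree.of_smul_eq_zero fun n q h => by
    obtain ⟨m, rfl⟩ := Submodule.Quotient.mk_surjective _ q
    by_cases hn : n = 0
    · exact Or.inl hn
    · rw [← Submodule.Quotient.mk_smul, Submodule.Quotient.mk_eq_zero] at h
      exact Or.inr ((Submodule.Quotient.mk_eq_zero _).2 (hsat n m hn h))
  obtain ⟨r, e⟩ : ∃ r : ℕ, Nonempty ((M ⧸ M₀) ≃ₗ[ℤ] (Fin r → ℤ)) :=
    ⟨_, ⟨(Module.finBasis ℤ (M ⧸ M₀)).equivFun⟩⟩
  obtain ⟨e⟩ := e
  let q : M →ₗ[ℤ] (Fin r → ℤ) := e.toLinearMap ∘ₗ M₀.mkQ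
  have hq : Function.Surjective q := e.surjective.comp M₀.mkQ_surjective
  obtain ⟨s, hs⟩ := Module.projective_lifting_property q LinearMap.id hq
  have hsq : ∀ y, q (s y) = y := fun y => DFunLike.congr_fun hs y
  have hker : ∀ m, m - s (q m) ∈ M₀ := fun m => by
    have : q (m - s (q m)) = 0 := by rw [map_sub, hsq, sub_self]
    exact (Submodule.Quotient.mk_eq_zero M₀).1 (e.injective (this.trans (map_zero e).symm))
  let χ₁ : Multiplicative (Fin r → ℤ) →* K := χ.comp (AddMonoidHom.toMultiplicative s.toAddMonoidHom)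
  let δ : M →+ M := (-AddMonoidHom.id M) + (s.comp q).toAddMonoidHom
  have hδ : ∀ m, δ m = -(m - s (q m)) := fun m => by simp [δ]; abel
  have hδv : ∀ m, v (χ (Multiplicative.ofAdd (δ m))) = 1 := fun m => by
    rw [← hmem, hδ]
    exact M₀.neg_mem (hker m)
  choose c hc using fun m : Multiplicative M =>
    (integers (R := R) (K := K)).exists_of_le_one (le_of_eq (hδv m.toAdd))
  let χ₀ : Multiplicative M →* R :=
    { toFun := c
      map_one' := IsFractionRing.injective R K (by
        rw [hc, toAdd_one, map_zero δ, ofAdd_zero, map_one χ, map_one (algebraMap R K)])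
      map_mul' := fun a d => IsFractionRing.injective R K (by
        rw [map_mul, hc, hc, hc, toAdd_mul, map_add, ofAdd_add, map_mul]) }
  let u' : Red.DS S (Fin r → ℤ) ⟶ G := Red.DSmap S q.toAddMonoidHom ≫ u
  have : IsMonHom (Red.DSmap S q.toAddMonoidHom) := inferInstance
  have : IsMonHom u' := isMonHom_comp' inferInstance inferInstance
  have : Mono (Red.DSmap S q.toAddMonoidHom) := mono_DSmap _ hq
  have : Mono u' := mono_comp _ _
  have hx' : mor b (Algebra.ofId R K) ≫ (imgPt b u χ₀ * x) = imgPt b u' χ₁ := by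
    rw [MonObj.comp_mul, imgPt_nat, hx, ← imgPt_mul]
    show _ = (stdChart b (Fin r → ℤ)).pt χ₁ ≫ Red.DSmap S q.toAddMonoidHom ≫ u
    rw [← Category.assoc, stdChart_pt_DSmap]
    refine congrArg (fun k => imgPt b u k) (MonoidHom.ext fun m => ?_)
    show algebraMap R K (c m) * χ m = χ (Multiplicative.ofAdd (s (q m.toAdd)))
    rw [hc, ← map_mul]
    congr 1
    show Multiplicative.ofAdd (δ m.toAdd + m.toAdd) = _
    rw [hδ]
    congr 1
    abel
  have hall := eq_one_of_point (u := u') χ₁ (fun y hy => by
    have h1 : s y.toAdd ∈ M₀ := (hmem _).2 hy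
    have h2 : q (s y.toAdd) = 0 := by
      show e (M₀.mkQ (s y.toAdd)) = 0
      rw [Submodule.mkQ_apply, (Submodule.Quotient.mk_eq_zero M₀).2 h1, map_zero]
    rw [hsq] at h2
    exact h2) hx'
  intro m
  have h2 : q m.toAdd = 0 := hall (Multiplicative.ofAdd (q m.toAdd))
  have h3 := hker m.toAdd
  rw [h2, map_zero, sub_zero] at h3
  exact (hmem _).1 h3

/-- a monomorphism from a diagonalisable group satisfies the existence part of the valuative criterion -/
theorem existence_DS {M : Type} [AddCommGroup M] [Module.Finite ℤ M] {G : Over S} [GrpObj G] [IsSeparated G.hom]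
    [LocallyOfFiniteType G.hom] [QuasiCompact G.hom] (u : Red.DS S M ⟶ G) [IsMonHom u] [Mono u] :
    ValuativeCriterion.Existence u.left := by
  intro sq
  let R := sq.R
  let K := sq.K
  let b : Spec (CommRingCat.of R) ⟶ S := sq.i₂ ≫ G.hom
  let p₁ : X b K ⟶ Red.DS S M := Over.homMk sq.i₁ (by
    rw [← Over.w u, ← Category.assoc, sq.commSq.w, Category.assoc]
    rfl)
  obtain ⟨χ, hχ⟩ := ((stdChart b M).bij K).2 p₁
  let x : X b R ⟶ G := Over.homMk sq.i₂ (by
    show sq.i₂ ≫ G.hom = Spec.map (CommRingCat.ofHom (algebraMap R R)) ≫ b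
    rw [Algebra.algebraMap_self, CommRingCat.ofHom_id, Spec.map_id, Category.id_comp])
  have hx : mor b (Algebra.ofId R K) ≫ x = imgPt b u χ := by
    rw [imgPt, hχ]
    exact Over.OverMorphism.ext sq.commSq.w.symm
  have hv := val_eq_one χ hx
  choose c hc using fun m => (integers (R := R) (K := K)).exists_of_le_one (le_of_eq (hv m))
  let χR : Multiplicative M →* R :=
    { toFun := c
      map_one' := IsFractionRing.injective R K (by rw [hc, map_one, map_one])
      map_mul' := fun a d => IsFractionRing.injective R K (by rw [map_mul, hc, hc, hc, map_mul]) }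
  have hgen : mor b (Algebra.ofId R K) ≫ (stdChart b M).pt χR = p₁ := by
    rw [(stdChart b M).nat, ← hχ]
    exact congrArg _ (MonoidHom.ext hc)
  refine ⟨⟨⟨((stdChart b M).pt χR).left, congrArg (fun k => k.left) hgen, ?_⟩⟩⟩
  have : IsDominant (Spec.map (CommRingCat.ofHom (algebraMap R K))) := by
    refine ⟨?_⟩
    exact (PrimeSpectrum.denseRange_comap_iff_ker_le_nilRadical _).2 (by
      rw [CommRingCat.hom_ofHom, (RingHom.injective_iff_ker_eq_bot _).1 (IsFractionRing.injective R K)]
      exact bot_le)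
  refine ext_of_isDominant_of_isSeparated G.hom ?_ (Spec.map (CommRingCat.ofHom (algebraMap R K))) ?_
  · rw [Category.assoc, Over.w u, Over.w ((stdChart b M).pt χR)]
    exact (Over.w x).symm
  · have h := congrArg (fun k => k.left) hgen
    simp only [Over.comp_left] at h
    rw [← Category.assoc]
    exact (congrArg (· ≫ u.left) h).trans sq.commSq.w

/-- a monomorphism from a diagonalisable group is a closed immersion -/
theorem isClosedImmersion_DS {M : Type} [AddCommGroup M] [hM : Module.Finite ℤ M] {G : Over S} [GrpObj G]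
    [IsSeparated G.hom] [LocallyOfFiniteType G.hom] [QuasiCompact G.hom] (u : Red.DS S M ⟶ G) [IsMonHom u]
    [Mono u] : IsClosedImmersion u.left := by
  have : Monoid.FG (Multiplicative M) := AddMonoid.fg_iff_mul_fg.1 (AddGroup.fg_iff_addMonoid_fg.1 (Module.Finite.iff_addGroup_fg.1 hM))
  have haff : IsAffineHom (Red.DS S M).hom :=
    MorphismProperty.pullback_snd _ _ (inferInstanceAs (IsAffineHom (Spec.map _)))
  have hlft : LocallyOfFiniteType (Red.DS S M).hom := MorphismProperty.pullback_snd _ _ (by
    show LocallyOfFiniteType (Spec.map (CommRingCat.ofHom (algebraMap (ULift.{u} ℤ) _)))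
    rw [HasRingHomProperty.Spec_iff (P := @LocallyOfFiniteType), CommRingCat.hom_ofHom,
      RingHom.finiteType_algebraMap]
    infer_instance)
  have : IsAffineHom (u.left ≫ G.hom) := by rw [Over.w]; exact haff
  have : LocallyOfFiniteType (u.left ≫ G.hom) := by rw [Over.w]; exact hlft
  have : IsAffineHom u.left := IsAffineHom.of_comp u.left G.hom
  have : LocallyOfFiniteType u.left := locallyOfFiniteType_of_comp u.left G.hom
  have : UniversallyClosed u.left := UniversallyClosed.of_valuativeCriterion _ (existence_DS u)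
  have : IsProper u.left := ⟨⟩
  have : Mono u.left := inferInstance
  exact (IsClosedImmersion.iff_isFinite_and_mono _).2
    ⟨IsFinite.iff_isProper_and_isAffineHom.2 ⟨inferInstance, inferInstance⟩, inferInstance⟩

/-- a monomorphism from a group of multiplicative type is a closed immersion -/
theorem isClosedImmersion_of_mono {H G : Over S} [GrpObj H] [GrpObj G] (hH : SGA3x.IsMultTypeFT H)
    [IsSeparated G.hom] [LocallyOfFiniteType G.hom] [QuasiCompact G.hom] (u : H ⟶ G) [IsMonHom u]
    [Mono u] : IsClosedImmersion u.left := by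
  obtain ⟨S', f, hflat, -, hqc, hloc⟩ := hH
  have : MorphismProperty.DescendsAlong (@IsClosedImmersion : MorphismProperty Scheme.{u})
      (@Surjective ⊓ @Flat ⊓ @QuasiCompact) := Groth.L23.descendsAlong_isClosedImmersion
  refine FpqcLocal.of_fpqc u.left G.hom f hqc fun z => ?_
  obtain ⟨U, hzU, M, inst, hfg, ⟨e⟩⟩ := hloc z
  letI := inst
  obtain ⟨_, ⟨V, hV, rfl⟩, hzV, hVU⟩ := S'.isBasis_affineOpens.exists_subset_of_mem_open hzU U.2
  refine ⟨V, hzV, (HomLocus.at_iff u (P := @IsClosedImmersion) _).1 ?_⟩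
  let k : Spec Γ(S', V) ⟶ S := hV.fromSpec ≫ f
  have hr : Set.range hV.fromSpec ⊆ Set.range U.ι := by
    rw [Scheme.Opens.range_ι, hV.range_fromSpec]
    exact hVU
  let e' := TrivLocus.restrictIso (U.ι ≫ f) (IsOpenImmersion.lift _ _ hr) e
    (show IsOpenImmersion.lift _ _ hr ≫ U.ι ≫ f = k by rw [IsOpenImmersion.lift_fac_assoc])
  have : IsMonHom ((Over.pullback k).map u) := isMonHom_pullbackMap _ _
  have : Mono ((Over.pullback k).map u) := inferInstance
  have : IsIso e'.inv.hom.hom := inferInstanceAs (IsIso ((Grp.forget _).map e'.inv))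
  have : IsIso e'.inv.hom.hom.left := inferInstanceAs (IsIso ((Over.forget _).map e'.inv.hom.hom))
  let w := e'.inv.hom.hom ≫ (Over.pullback k).map u
  have : IsMonHom e'.inv.hom.hom := inferInstance
  have : IsMonHom w := isMonHom_comp' inferInstance inferInstance
  have : Mono w := mono_comp _ _
  have : Module.Finite ℤ M := Module.Finite.iff_addGroup_fg.2 hfg
  have : IsSeparated (Red.bc k G).hom := MorphismProperty.pullback_snd _ _ ‹IsSeparated G.hom›
  have : LocallyOfFiniteType (Red.bc k G).hom := MorphismProperty.pullback_snd _ _ ‹LocallyOfFiniteType G.hom›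
  have : QuasiCompact (Red.bc k G).hom := MorphismProperty.pullback_snd _ _ ‹QuasiCompact G.hom›
  have h1 : IsClosedImmersion (e'.inv.hom.hom.left ≫ ((Over.pullback k).map u).left) := isClosedImmersion_DS w
  have h2 : HomLocus.At u @IsClosedImmersion k :=
    (MorphismProperty.cancel_left_of_respectsIso (P := @IsClosedImmersion) _ _).1 h1
  exact h2.comp u _ hV.isoSpec.hom (hV.isoSpec_hom_fromSpec_assoc f)

end Groth.L25.MonoClosed
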