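import Mathlib.RingTheory.Valuation.ValuationRing
import Mathlib.RingTheory.LocalRing.ResidueField.Basic
import Mathlib.Algebra.MonoidAlgebra.NoZeroDivisors
import Mathlib.Algebra.MonoidAlgebra.Basic
import Mathlib.Algebra.Group.UniqueProds.Basic
import Mathlib.Data.Finset.Max

/-!
# Scaling a Laurent polynomial by powers of a non-integral character

Over a valuation ring `R` with fraction field `K`, let `χ` be a character of a group `N` with values in `Kˣ`
whose valuation is injective in the sense `v (χ m) = 1 → m = 1`. For all but finitely many `n`, the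
reductions of `x ↦ x(χⁿ ·)` of two fixed Laurent polynomials are monomials with the same exponent.
-/

set_option autoImplicit false
universe u

namespace Groth.L25.MonoClosed

open MonoidAlgebra

section Twist

variable {K : Type u} [Field K] {N : Type} [CommGroup N]

/-- `m ↦ χ m ^ n • m` -/
noncomputable def twistK (χ : N →* K) (n : ℕ) : MonoidAlgebra K N →ₐ[K] MonoidAlgebra K N :=
  MonoidAlgebra.lift K (MonoidAlgebra K N) N
    { toFun := fun m => MonoidAlgebra.single m (χ m ^ n)
      map_one' := by rw [map_one, one_pow, MonoidAlgebra.one_def]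
      map_mul' := fun a b => by rw [MonoidAlgebra.single_mul_single, map_mul, mul_pow] }

theorem twistK_single (χ : N →* K) (n : ℕ) (m : N) (c : K) :
    twistK χ n (single m c) = single m (c * χ m ^ n) := by
  simp [twistK]

theorem coeff_twistK (χ : N →* K) (n : ℕ) (x : MonoidAlgebra K N) (m : N) :
    (twistK χ n x).coeff m = x.coeff m * χ m ^ n := by
  classical
  induction x using MonoidAlgebra.induction_linear with
  | zero => simp
  | add p q hp hq => simp [map_add, hp, hq, add_mul]
  | single a c =>
    rw [twistK_single, coeff_single, coeff_single, Finsupp.single_apply, Finsupp.single_apply]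
    split
    · subst ‹a = m›; rfl
    · simp

end Twist

section Val

variable {R K : Type u} [CommRing R] [IsDomain R] [ValuationRing R] [Field K] [Algebra R K] [IsFractionRing R K]

theorem integers : (ValuationRing.valuation R K).Integers R where
  hom_inj := IsFractionRing.injective R K
  map_le_one x := (ValuationRing.mem_integer_iff R K _).2 ⟨x, rfl⟩
  exists_of_le_one {x} hx := (ValuationRing.mem_integer_iff R K x).1 hx

variable {N : Type} [CommGroup N] [UniqueProds N]

/-- for all but finitely many `n`: if `p · σₙ Q = σₙ P · g` with `g` nonzero modulo the maximal ideal, then `p`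
is a constant multiple of `g` modulo the maximal ideal -/
theorem exists_finite_bad (χ : N →* K) (hχ : ∀ m, ValuationRing.valuation R K (χ m) = 1 → m = 1)
    (P Q : MonoidAlgebra K N) (hQ : Q ≠ 0) :
    ∃ E : Set ℕ, E.Finite ∧ ∀ n ∉ E, ∀ p g : MonoidAlgebra R N,
      mapRingHom N (IsLocalRing.residue R) g ≠ 0 →
      mapRingHom N (algebraMap R K) p * twistK χ n Q = twistK χ n P * mapRingHom N (algebraMap R K) g →
      ∃ c : IsLocalRing.ResidueField R,
        mapRingHom N (IsLocalRing.residue R) p = c • mapRingHom N (IsLocalRing.residue R) g := by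
  classical
  let v := ValuationRing.valuation R K
  have hv := integers (R := R) (K := K)
  let s : Finset (N × K) := P.coeff.support.image (fun m => (m, P.coeff m)) ∪
    Q.coeff.support.image (fun m => (m, Q.coeff m))
  let E : Set ℕ := ⋃ a ∈ s, ⋃ b ∈ s,
    {n | a.1 ≠ b.1 ∧ v (a.2 * χ a.1 ^ n) = v (b.2 * χ b.1 ^ n)}
  have hs0 : ∀ a ∈ s, a.2 ≠ 0 := by
    intro a ha
    simp only [s, Finset.mem_union, Finset.mem_image, Finsupp.mem_support_iff] at ha
    rcases ha with ⟨m, hm, rfl⟩ | ⟨m, hm, rfl⟩ <;> exact hm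
  have hχ0 : ∀ m, χ m ≠ 0 := fun m => ((Group.isUnit m).map χ).ne_zero
  refine ⟨E, ?_, fun n hn p g hg h => ?_⟩
  · refine s.finite_toSet.biUnion fun a ha => s.finite_toSet.biUnion fun b hb => ?_
    refine Set.Subsingleton.finite fun n hn n' hn' => ?_
    wlog hle : n ≤ n' generalizing n n'
    · exact (this n' hn' n hn (le_of_not_ge hle)).symm
    by_contra hne
    obtain ⟨d, rfl⟩ := Nat.exists_eq_add_of_le hle
    have hd : d ≠ 0 := fun h => hne (by omega)
    obtain ⟨hab, h1⟩ := hn
    have h2 := hn'.2
    rw [pow_add, pow_add, ← mul_assoc, ← mul_assoc, map_mul, map_mul v (b.2 * χ b.1 ^ n), h1] at h2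
    have h3 := mul_left_cancel₀ (v.ne_zero_iff.2 (mul_ne_zero (hs0 b hb) (pow_ne_zero _ (hχ0 _)))) h2
    rw [map_pow, map_pow] at h3
    have h4 : v (χ (a.1 / b.1)) ^ d = 1 := by
      have e : χ (a.1 / b.1) * χ b.1 = χ a.1 := by rw [← map_mul, div_mul_cancel]
      rw [← e, map_mul, mul_pow] at h3
      exact (mul_eq_right₀ (pow_ne_zero _ (v.ne_zero_iff.2 (hχ0 _)))).1 h3
    exact hab (div_eq_one.1 (hχ _ ((pow_eq_one_iff_of_nonneg zero_le' hd).1 h4)))
  -- the largest coefficient
  obtain ⟨a₀, ha₀⟩ : ∃ a, a ∈ Q.coeff.support := Finsupp.support_nonempty_iff.2 fun h0 =>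
    hQ (MonoidAlgebra.ext (by rw [h0]; rfl))
  have hsne : s.Nonempty := ⟨(a₀, Q.coeff a₀), Finset.mem_union_right _ (Finset.mem_image_of_mem _ ha₀)⟩
  obtain ⟨b, hb, hmax⟩ := s.exists_max_image (fun a => v (a.2 * χ a.1 ^ n)) hsne
  let d : K := b.2 * χ b.1 ^ n
  have hd : d ≠ 0 := mul_ne_zero (hs0 b hb) (pow_ne_zero _ (hχ0 _))
  -- normalised twists have integral coefficients
  have key : ∀ T : MonoidAlgebra K N, (∀ m ∈ T.coeff.support, (m, T.coeff m) ∈ s) →
      ∃ T' : MonoidAlgebra R N, mapRingHom N (algebraMap R K) T' = d⁻¹ • twistK χ n T ∧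
        ∀ m, m ≠ b.1 → IsLocalRing.residue R (T'.coeff m) = 0 := by
    intro T hT
    have hle : ∀ m, v (d⁻¹ * (T.coeff m * χ m ^ n)) ≤ 1 := fun m => by
      by_cases hm : m ∈ T.coeff.support
      · rw [map_mul, map_inv₀, inv_mul_le_one₀ (v.pos_iff.2 hd)]
        exact hmax _ (hT m hm)
      · rw [Finsupp.notMem_support_iff.1 hm]
        simp
    choose r hr using fun m => hv.exists_of_le_one (hle m)
    refine ⟨∑ m ∈ T.coeff.support, single m (r m), ?_, fun m hm => ?_⟩
    · refine MonoidAlgebra.ext (Finsupp.ext fun m => ?_)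
      rw [coeff_mapRingHom, coeff_smul, Finsupp.smul_apply, coeff_twistK, coeff_sum, Finset.sum_apply']
      simp only [coeff_single, Finsupp.single_apply, Finset.sum_ite_eq', smul_eq_mul]
      split
      · exact hr m
      · rw [map_zero, Finsupp.notMem_support_iff.1 ‹_›, zero_mul, mul_zero]
    · rw [coeff_sum, Finset.sum_apply']
      simp only [coeff_single, Finsupp.single_apply, Finset.sum_ite_eq']
      split
      · rw [IsLocalRing.residue_eq_zero_iff, IsLocalRing.mem_maximalIdeal, mem_nonunits_iff,
          hv.isUnit_iff_valuation_eq_one, hr m, map_mul, map_inv₀]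
        intro h1
        refine hn (Set.mem_biUnion (hT m ‹_›) (Set.mem_biUnion hb ⟨hm, ?_⟩))
        exact ((inv_mul_eq_one₀ (v.ne_zero_iff.2 hd)).1 h1).symm
      · exact map_zero _
  obtain ⟨P', hP', hP0⟩ := key P fun m hm => Finset.mem_union_left _ (Finset.mem_image_of_mem _ hm)
  obtain ⟨Q', hQ', hQ0⟩ := key Q fun m hm => Finset.mem_union_right _ (Finset.mem_image_of_mem _ hm)
  have hinj : Function.Injective (mapRingHom N (algebraMap R K)) := fun x y hxy =>
    MonoidAlgebra.ext (Finsupp.ext fun m => IsFractionRing.injective R K (by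
      have := congrArg (fun z : MonoidAlgebra K N => z.coeff m) hxy
      simpa [coeff_mapRingHom] using this))
  have heq : p * Q' = P' * g := hinj (by
    rw [map_mul, map_mul, hP', hQ', mul_smul_comm, smul_mul_assoc, h])
  let red := mapRingHom N (IsLocalRing.residue R)
  have hmon : ∀ T' : MonoidAlgebra R N, (∀ m, m ≠ b.1 → IsLocalRing.residue R (T'.coeff m) = 0) →
      red T' = single b.1 (IsLocalRing.residue R (T'.coeff b.1)) := fun T' hT' => by
    refine MonoidAlgebra.ext (Finsupp.ext fun m => ?_)
    rw [coeff_mapRingHom, coeff_single, Finsupp.single_apply]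
    split
    · subst ‹b.1 = m›; rfl
    · exact hT' m (Ne.symm ‹_›)
  set c1 := IsLocalRing.residue R (P'.coeff b.1) with hc1
  set c2 := IsLocalRing.residue R (Q'.coeff b.1) with hc2
  -- one of the leading coefficients is a unit
  have hunit : c1 ≠ 0 ∨ c2 ≠ 0 := by
    have e : ∀ (T : MonoidAlgebra K N) (T' : MonoidAlgebra R N),
        mapRingHom N (algebraMap R K) T' = d⁻¹ • twistK χ n T → T.coeff b.1 = b.2 →
        IsLocalRing.residue R (T'.coeff b.1) ≠ 0 := fun T T' hT hTb => by
      have h1 := congrArg (fun z : MonoidAlgebra K N => z.coeff b.1) hT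
      simp only [coeff_mapRingHom, coeff_smul, Finsupp.smul_apply, coeff_twistK, hTb, smul_eq_mul] at h1
      rw [inv_mul_cancel₀ hd, ← map_one (algebraMap R K)] at h1
      rw [IsFractionRing.injective R K h1, map_one]
      exact one_ne_zero
    rcases Finset.mem_union.1 hb with hb' | hb' <;> obtain ⟨m, -, hm⟩ := Finset.mem_image.1 hb'
    · exact Or.inl (e P P' hP' (by rw [← hm]))
    · exact Or.inr (e Q Q' hQ' (by rw [← hm]))
  have hred : red p * single b.1 c2 = single b.1 c1 * red g := by
    rw [hc1, hc2, ← hmon P' hP0, ← hmon Q' hQ0, ← map_mul, ← map_mul, heq]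
  have hmul : ∀ (x : MonoidAlgebra (IsLocalRing.ResidueField R) N) (c : IsLocalRing.ResidueField R),
      single b.1 c * x = single b.1 1 * (c • x) := fun x c => by
    rw [mul_smul_comm, ← smul_mul_assoc, smul_single, smul_eq_mul, mul_one]
  have hred' : c2 • red p = c1 • red g := by
    refine mul_left_cancel₀ (single_ne_zero.2 (one_ne_zero (α := IsLocalRing.ResidueField R)) :
      single b.1 (1 : IsLocalRing.ResidueField R) ≠ 0) ?_
    rw [← hmul, ← hmul, mul_comm, hred]
  by_cases h2 : c2 = 0
  · rw [h2, zero_smul] at hred'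
    exact absurd ((smul_eq_zero.1 hred'.symm).resolve_left (hunit.resolve_right (not_not.2 h2))) hg
  · refine ⟨c2⁻¹ * c1, ?_⟩
    rw [← smul_smul, ← hred', inv_smul_smul₀ h2]

end Val

end Groth.L25.MonoClosed
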