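import Groth.Agent.L25.MonoClosed.Alg
import Groth.Agent.L25.SplitSub.Map
import Mathlib.RingTheory.Localization.Away.Basic
import Mathlib.RingTheory.FiniteType
import Mathlib.AlgebraicGeometry.Morphisms.FiniteType

/-!
# Translates of a split torus by an integral point with non-integral generic character

`u : D(M) ⟶ G` a homomorphism, `x` an `R`-point of `G`; `Φ n` is the universal point translated by `xⁿ`.
-/

set_option autoImplicit false
universe u

open CategoryTheory CategoryTheory.Limits MonoidalCategory CartesianMonoidalCategory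
open AlgebraicGeometry Opposite
open scoped MonObj

set_option backward.isDefEq.respectTransparency.types false
set_option linter.style.haveILetI false

noncomputable section

namespace Groth.L25.MonoClosed

open Cocycle SplitSub

variable {S : Scheme.{u}} {R : Type u} [CommRing R] (b : Spec (CommRingCat.of R) ⟶ S) {M : Type} [AddCommGroup M]
  {G : Over S} [GrpObj G] (u : Red.DS S M ⟶ G) (x : X b R ⟶ G)

/-- the image under `u` of the point of a character -/
def imgPt {C : Type u} [CommRing C] [Algebra R C] (χ : Multiplicative M →* C) : X b C ⟶ G :=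
  (stdChart b M).pt χ ≫ u

/-- the restriction of `x` -/
def res (C : Type u) [CommRing C] [Algebra R C] : X b C ⟶ G := mor b (Algebra.ofId R C) ≫ x

/-- the universal point translated by `xⁿ` -/
def univPt (n : ℕ) : X b (MonoidAlgebra R (Multiplicative M)) ⟶ G :=
  res b x _ ^ n * imgPt b u (MonoidAlgebra.of R (Multiplicative M))

variable {b u x}

theorem imgPt_mul [IsMonHom u] {C : Type u} [CommRing C] [Algebra R C] (χ₁ χ₂ : Multiplicative M →* C) :
    imgPt b u (χ₁ * χ₂) = imgPt b u χ₁ * imgPt b u χ₂ := by
  rw [imgPt, (stdChart b M).pt_mul, MonObj.mul_comp]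
  rfl

theorem imgPt_pow [IsMonHom u] {C : Type u} [CommRing C] [Algebra R C] (χ : Multiplicative M →* C) (n : ℕ) :
    imgPt b u (χ ^ n) = imgPt b u χ ^ n :=
  map_pow (MonoidHom.mk' (fun c : Multiplicative M →* C => imgPt b u c) imgPt_mul) χ n

theorem imgPt_nat {C D : Type u} [CommRing C] [Algebra R C] [CommRing D] [Algebra R D] (h : C →ₐ[R] D)
    (χ : Multiplicative M →* C) : mor b h ≫ imgPt b u χ = imgPt b u ((h : C →* D).comp χ) := by
  rw [imgPt, imgPt, ← Category.assoc, (stdChart b M).nat]

theorem res_nat {C D : Type u} [CommRing C] [Algebra R C] [CommRing D] [Algebra R D] (h : C →ₐ[R] D) :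
    mor b h ≫ res b x C = res b x D := by
  rw [res, res, ← Category.assoc, ← mor_comp]
  congr 2
  ext

theorem univPt_nat (n : ℕ) {C : Type u} [CommRing C] [Algebra R C]
    (h : MonoidAlgebra R (Multiplicative M) →ₐ[R] C) : mor b h ≫ univPt b u x n =
      res b x C ^ n * imgPt b u
        ((h : MonoidAlgebra R (Multiplicative M) →* C).comp (MonoidAlgebra.of R (Multiplicative M))) := by
  rw [univPt, MonObj.comp_mul, imgPt_nat, MonObj.comp_pow, res_nat h]

variable {K : Type u} [Field K] [Algebra R K]

/-- the base change to `K[M]` -/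
def genHom (R K : Type u) [CommRing R] [Field K] [Algebra R K] (M : Type) [AddCommGroup M] :
    MonoidAlgebra R (Multiplicative M) →ₐ[R] MonoidAlgebra K (Multiplicative M) :=
  MonoidAlgebra.lift R _ (Multiplicative M) (MonoidAlgebra.of K (Multiplicative M))

theorem genHom_eq (p : MonoidAlgebra R (Multiplicative M)) :
    genHom R K M p = MonoidAlgebra.mapRingHom (Multiplicative M) (algebraMap R K) p := by
  induction p using MonoidAlgebra.induction_linear with
  | zero => simp
  | add p q hp hq => rw [map_add, map_add, hp, hq]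
  | single m c => simp [genHom, MonoidAlgebra.lift_single, Algebra.smul_def, MonoidAlgebra.single_mul_single]

theorem genHom_injective [IsDomain R] [IsFractionRing R K] : Function.Injective (genHom R K M) := fun p q h => by
  rw [genHom_eq, genHom_eq] at h
  refine MonoidAlgebra.ext (Finsupp.ext fun m => IsFractionRing.injective R K ?_)
  simpa [MonoidAlgebra.coeff_mapRingHom] using
    congrArg (fun z : MonoidAlgebra K (Multiplicative M) => z.coeff m) h

theorem twistK_injective (χ : Multiplicative M →* K) (n : ℕ) : Function.Injective (twistK χ n) := fun p q h => by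
  refine MonoidAlgebra.ext (Finsupp.ext fun m => ?_)
  have := congrArg (fun z : MonoidAlgebra K (Multiplicative M) => z.coeff m) h
  simp only [coeff_twistK] at this
  exact mul_right_cancel₀ (pow_ne_zero _ ((Group.isUnit m).map χ).ne_zero) this

/-- over `K`, the translates differ by the twist -/
theorem univPt_generic [IsMonHom u] (χ : Multiplicative M →* K)
    (hx : mor b (Algebra.ofId R K) ≫ x = imgPt b u χ) (n₀ t : ℕ) :
    mor b (genHom R K M) ≫ univPt b u x (n₀ + t) =
      mor b (((twistK χ t).restrictScalars R).comp (genHom R K M)) ≫ univPt b u x n₀ := by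
  let χK : Multiplicative M →* MonoidAlgebra K (Multiplicative M) :=
    (algebraMap K (MonoidAlgebra K (Multiplicative M)) : K →* MonoidAlgebra K (Multiplicative M)).comp χ
  have e : res b x (MonoidAlgebra K (Multiplicative M)) = imgPt b u χK := by
    rw [← res_nat (IsScalarTower.toAlgHom R K (MonoidAlgebra K (Multiplicative M)))]
    show _ ≫ mor b (Algebra.ofId R K) ≫ x = _
    rw [hx]
    exact imgPt_nat (IsScalarTower.toAlgHom R K (MonoidAlgebra K (Multiplicative M))) χ
  rw [univPt_nat, univPt_nat, e, ← imgPt_pow, ← imgPt_pow, ← imgPt_mul, ← imgPt_mul]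
  congr 1
  refine MonoidHom.ext fun m => ?_
  simp only [MonoidHom.mul_apply, MonoidHom.pow_apply, MonoidHom.comp_apply, χK, MonoidHom.coe_coe,
    AlgHom.coe_comp, AlgHom.coe_restrictScalars', Function.comp_apply, genHom, MonoidAlgebra.lift_single, one_smul,
    MonoidAlgebra.of_apply, twistK_single, MonoidAlgebra.coe_algebraMap, Algebra.algebraMap_self,
    RingHom.id_apply, MonoidAlgebra.single_mul_single, MonoidAlgebra.single_pow, one_pow,
    _root_.one_mul, _root_.mul_one, pow_add]

/-- coordinates of a translate on a basic open landing in an affine open `W` -/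
structure LocCoord (b : Spec (CommRingCat.of R) ⟶ S) (u : Red.DS S M ⟶ G) (x : X b R ⟶ G) {W : G.left.Opens}
    (hW : IsAffineOpen W) (n : ℕ) where
  g : MonoidAlgebra R (Multiplicative M)
  f : Γ(G.left, W) ⟶ CommRingCat.of (Localization.Away g)
  fac : Spec.map f ≫ hW.fromSpec =
    Spec.map (CommRingCat.ofHom (algebraMap (MonoidAlgebra R (Multiplicative M)) (Localization.Away g))) ≫
      (univPt b u x n).left

theorem exists_locCoord {W : G.left.Opens} (hW : IsAffineOpen W) (n : ℕ)
    (z : Spec (CommRingCat.of (MonoidAlgebra R (Multiplicative M)))) (hz : (univPt b u x n).left z ∈ W) :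
    ∃ c : LocCoord b u x hW n, c.g ∉ z.asIdeal := by
  obtain ⟨_, ⟨g, rfl⟩, hzg, hg⟩ := PrimeSpectrum.isTopologicalBasis_basic_opens.exists_subset_of_mem_open
    (show z ∈ (univPt b u x n).left ⁻¹ᵁ W from hz) ((univPt b u x n).left ⁻¹ᵁ W).2
  have hr : Set.range (Spec.map (CommRingCat.ofHom (algebraMap (MonoidAlgebra R (Multiplicative M))
      (Localization.Away g))) ≫ (univPt b u x n).left) ⊆ Set.range hW.fromSpec := by
    rintro _ ⟨q, rfl⟩
    rw [hW.range_fromSpec, Scheme.Hom.comp_apply]
    exact hg ((PrimeSpectrum.localization_away_comap_range (Localization.Away g) g).le ⟨q, rfl⟩)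
  exact ⟨⟨g, Spec.preimage (IsOpenImmersion.lift _ _ hr), by rw [Spec.map_preimage, IsOpenImmersion.lift_fac]⟩, hzg⟩

variable [IsDomain R] [IsFractionRing R K] [UniqueProds (Multiplicative M)]

/-- comparison of two translates on the coordinates, over `K` -/
theorem coord_relation [IsMonHom u] (χ : Multiplicative M →* K)
    (hx : mor b (Algebra.ofId R K) ≫ x = imgPt b u χ) {W : G.left.Opens} (hW : IsAffineOpen W) {n₀ t : ℕ}
    (c₀ : LocCoord b u x hW n₀) (c : LocCoord b u x hW (n₀ + t)) (hg₀ : c₀.g ≠ 0) (hg : c.g ≠ 0)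
    (a : Γ(G.left, W)) (l l' : ℕ) (p P : MonoidAlgebra R (Multiplicative M))
    (hp : c.f a * algebraMap _ _ c.g ^ l = algebraMap _ _ p)
    (hP : c₀.f a * algebraMap _ _ c₀.g ^ l' = algebraMap _ _ P) :
    genHom R K M p * twistK χ t (genHom R K M (c₀.g ^ l')) =
      twistK χ t (genHom R K M P) * genHom R K M (c.g ^ l) := by
  let L₀ := FractionRing (MonoidAlgebra K (Multiplicative M))
  let h' : MonoidAlgebra R (Multiplicative M) →ₐ[R] MonoidAlgebra K (Multiplicative M) :=
    ((twistK χ t).restrictScalars R).comp (genHom R K M)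
  have h'inj : Function.Injective h' := (twistK_injective χ t).comp genHom_injective
  have hu : ∀ (h : MonoidAlgebra R (Multiplicative M) →ₐ[R] MonoidAlgebra K (Multiplicative M)),
      Function.Injective h → ∀ g, g ≠ 0 → IsUnit (((algebraMap _ L₀).comp h.toRingHom) g) := fun h hh g hg =>
    isUnit_iff_ne_zero.2 fun h0 => hg (hh ((IsFractionRing.injective _ L₀ (h0.trans (map_zero _).symm)).trans
      (map_zero h).symm))
  let α := Localization.awayLift ((algebraMap _ L₀).comp (genHom R K M).toRingHom) c.g (hu _ genHom_injective _ hg)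
  let β := Localization.awayLift ((algebraMap _ L₀).comp h'.toRingHom) c₀.g (hu h' h'inj _ hg₀)
  have hα : ∀ q, α (algebraMap _ _ q) = algebraMap _ L₀ (genHom R K M q) := fun q => IsLocalization.Away.lift_eq c.g _ q
  have hβ : ∀ q, β (algebraMap _ _ q) = algebraMap _ L₀ (h' q) := fun q => IsLocalization.Away.lift_eq c₀.g _ q
  have hfac : c.f ≫ CommRingCat.ofHom α = c₀.f ≫ CommRingCat.ofHom β := by
    apply Spec.map_injective
    rw [← cancel_mono hW.fromSpec, Spec.map_comp, Spec.map_comp, Category.assoc, Category.assoc, c.fac, c₀.fac,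
      ← Category.assoc, ← Category.assoc, ← Spec.map_comp, ← Spec.map_comp, ← CommRingCat.ofHom_comp,
      ← CommRingCat.ofHom_comp, show α.comp (algebraMap _ _) = (algebraMap _ L₀).comp (genHom R K M).toRingHom from
        RingHom.ext hα, show β.comp (algebraMap _ _) = (algebraMap _ L₀).comp h'.toRingHom from
        RingHom.ext hβ]
    have hsp : ∀ (aL : MonoidAlgebra K (Multiplicative M) →+* L₀)
        (j : MonoidAlgebra R (Multiplicative M) →+* MonoidAlgebra K (Multiplicative M))
        {Z : Scheme.{u}} (F : Spec (CommRingCat.of (MonoidAlgebra R (Multiplicative M))) ⟶ Z),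
        Spec.map (CommRingCat.ofHom (aL.comp j)) ≫ F =
          Spec.map (CommRingCat.ofHom aL) ≫ Spec.map (CommRingCat.ofHom j) ≫ F := by
      intro aL j Z F
      rw [CommRingCat.ofHom_comp, Spec.map_comp, Category.assoc]
    rw [hsp, hsp]
    exact congrArg (Spec.map (CommRingCat.ofHom (algebraMap _ L₀)) ≫ ·)
      (congrArg (fun q => q.left) (univPt_generic χ hx n₀ t))
  have ea : α (c.f a) = β (c₀.f a) := congrArg (fun q => q.hom a) hfac
  apply IsFractionRing.injective (MonoidAlgebra K (Multiplicative M)) L₀
  have e1 := congrArg α hp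
  have e2 := congrArg β hP
  rw [map_mul, map_pow, hα, hα] at e1
  rw [map_mul, map_pow, hβ, hβ, ← ea] at e2
  rw [map_mul, map_mul, map_pow (genHom R K M), map_pow (genHom R K M), map_pow (twistK χ t),
    map_pow (algebraMap _ L₀), map_pow (algebraMap _ L₀), ← e1]
  refine Eq.trans ?_ (congrArg (· * _) e2)
  show _ * algebraMap _ L₀ (h' c₀.g) ^ l' = _
  ring

end Groth.L25.MonoClosed
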