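import Groth.Agent.L25.MonoClosed.Points

/-!
# A monomorphism from a split torus has no integral point with nowhere integral character
-/

set_option autoImplicit false
universe u

open CategoryTheory CategoryTheory.Limits MonoidalCategory CartesianMonoidalCategory
open AlgebraicGeometry Opposite
open scoped MonObj

set_option backward.isDefEq.respectTransparency.types false
set_option linter.style.haveILetI false

noncomputable section

namespace Groth.L25.MonoClosed

open Cocycle SplitSub

variable {S : Scheme.{u}}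
variable {R K : Type u} [CommRing R] [IsDomain R] [ValuationRing R] [Field K] [Algebra R K] [IsFractionRing R K]
variable {b : Spec (CommRingCat.of R) ⟶ S} {M : Type} [AddCommGroup M] [UniqueProds (Multiplicative M)]
  {G : Over S} [GrpObj G] {u : Red.DS S M ⟶ G} [IsMonHom u] {x : X b R ⟶ G}

/-- the reduction to the residue field -/
abbrev red : MonoidAlgebra R (Multiplicative M) →+* MonoidAlgebra (IsLocalRing.ResidueField R) (Multiplicative M) :=
  MonoidAlgebra.mapRingHom (Multiplicative M) (IsLocalRing.residue R)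

/-- for all but finitely many translates, a coordinate is constant modulo the maximal ideal -/
theorem exists_bad (χ : Multiplicative M →* K) (hχ : ∀ m, ValuationRing.valuation R K (χ m) = 1 → m = 1)
    (hx : mor b (Algebra.ofId R K) ≫ x = imgPt b u χ) {W : G.left.Opens} (hW : IsAffineOpen W) {n₀ : ℕ}
    (c₀ : LocCoord b u x hW n₀) (hg₀ : c₀.g ≠ 0) (a : Γ(G.left, W)) :
    ∃ E : Set ℕ, E.Finite ∧ ∀ t ∉ E, ∀ c : LocCoord b u x hW (n₀ + t), red c.g ≠ 0 →
      ∃ (e : IsLocalRing.ResidueField R) (l : ℕ) (p : MonoidAlgebra R (Multiplicative M)),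
        c.f a * algebraMap _ _ c.g ^ l = algebraMap _ _ p ∧ red p = e • red (c.g ^ l) := by
  obtain ⟨l', P, hP⟩ := IsLocalization.Away.surj c₀.g (c₀.f a)
  have hQ : genHom R K M (c₀.g ^ l') ≠ 0 := fun h0 =>
    pow_ne_zero l' hg₀ (genHom_injective (K := K) (h0.trans (map_zero _).symm))
  obtain ⟨E, hE, hbad⟩ := exists_finite_bad χ hχ (genHom R K M P) (genHom R K M (c₀.g ^ l')) hQ
  refine ⟨E, hE, fun t ht c hc => ?_⟩
  have hg : c.g ≠ 0 := fun h0 => hc (by rw [h0, map_zero])
  obtain ⟨l, p, hp⟩ := IsLocalization.Away.surj c.g (c.f a)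
  obtain ⟨e, he⟩ := hbad t ht p (c.g ^ l) (by rw [map_pow]; exact pow_ne_zero _ hc)
    (by rw [← genHom_eq, ← genHom_eq]; exact coord_relation χ hx hW c₀ c hg₀ hg a l l' p P hp hP)
  exact ⟨e, l, p, hp, he⟩

theorem eq_one_of_point [LocallyOfFiniteType G.hom] [QuasiCompact G.hom] [Mono u] (χ : Multiplicative M →* K)
    (hχ : ∀ m, ValuationRing.valuation R K (χ m) = 1 → m = 1)
    (hx : mor b (Algebra.ofId R K) ≫ x = imgPt b u χ) :
    ∀ m : Multiplicative M, m = 1 := by
  classical
  let B := MonoidAlgebra R (Multiplicative M)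
  let k := IsLocalRing.ResidueField R
  -- finitely many affine opens above a neighbourhood of the closed point
  obtain ⟨_, ⟨V, hV, rfl⟩, hs₀, -⟩ := S.isBasis_affineOpens.exists_subset_of_mem_open
    (Set.mem_univ (b (IsLocalRing.closedPoint R))) isOpen_univ
  obtain ⟨t, ht⟩ : ∃ t : Finset G.left.affineOpens, (∀ W ∈ t, W.1 ≤ G.hom ⁻¹ᵁ V) ∧
      ∀ z, G.hom z ∈ (V : Set S) → ∃ W ∈ t, z ∈ W.1 := by
    have hK : IsCompact ((G.hom ⁻¹ᵁ V : G.left.Opens) : Set G.left) := G.hom.isCompact_preimage hV.isCompact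
    choose W hW hzW hWle using fun z : (G.hom ⁻¹ᵁ V : G.left.Opens) =>
      show ∃ W : G.left.Opens, IsAffineOpen W ∧ z.1 ∈ W ∧ W ≤ G.hom ⁻¹ᵁ V by
        obtain ⟨_, ⟨W, hW, rfl⟩, hz, hle⟩ :=
          G.left.isBasis_affineOpens.exists_subset_of_mem_open z.2 (G.hom ⁻¹ᵁ V).2
        exact ⟨W, hW, hz, hle⟩
    obtain ⟨t, ht⟩ := hK.elim_finite_subcover (fun z => (W z : Set G.left)) (fun z => (W z).2)
      (fun z hz => Set.mem_iUnion.2 ⟨⟨z, hz⟩, hzW ⟨z, hz⟩⟩)
    refine ⟨t.image fun z => ⟨W z, hW z⟩, fun A hA => ?_, fun z hz => ?_⟩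
    · obtain ⟨w, -, rfl⟩ := Finset.mem_image.1 hA
      exact hWle w
    · obtain ⟨w, hw, hzw⟩ := Set.mem_iUnion₂.1 (ht hz)
      exact ⟨_, Finset.mem_image_of_mem _ hw, hzw⟩
  obtain ⟨htV, htz⟩ := ht
  -- the unit point of the special fibre
  let ε : B →ₐ[R] k := MonoidAlgebra.lift R k (Multiplicative M) 1
  have hεeq : ∀ g : B, ε g = MonoidAlgebra.lift k k (Multiplicative M) 1 (red g) := by
    intro g
    induction g using MonoidAlgebra.induction_linear with
    | zero => simp
    | add p q hp hq => rw [map_add, map_add, map_add, hp, hq]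
    | single m c =>
      rw [show ε (MonoidAlgebra.single m c) = c • (1 : k) from MonoidAlgebra.lift_single _ _ _, Algebra.smul_def,
        _root_.mul_one]
      show _ = MonoidAlgebra.lift k k (Multiplicative M) 1 (MonoidAlgebra.mapRingHom _ (IsLocalRing.residue R) _)
      rw [MonoidAlgebra.mapRingHom_single, MonoidAlgebra.lift_single, MonoidHom.one_apply, smul_eq_mul,
        _root_.mul_one]
      rfl
  let z : Spec (CommRingCat.of B) := (mor b ε).left (IsLocalRing.closedPoint k)
  have hz₀ : ∀ n, G.hom ((univPt b u x n).left z) ∈ (V : Set S) := by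
    intro n
    rw [← Scheme.Hom.comp_apply, Over.w, ← Scheme.Hom.comp_apply, Over.w]
    show (Spec.map (CommRingCat.ofHom (algebraMap R k)) ≫ b) (IsLocalRing.closedPoint k) ∈ (V : Set S)
    rw [Scheme.Hom.comp_apply, show Spec.map (CommRingCat.ofHom (algebraMap R k)) (IsLocalRing.closedPoint k) =
      IsLocalRing.closedPoint R from ?_]
    · exact hs₀
    · exact PrimeSpectrum.ext (by
        show Ideal.comap (algebraMap R k) (IsLocalRing.maximalIdeal _) = _
        rw [IsLocalRing.maximalIdeal_eq_bot]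
        exact IsLocalRing.ker_residue (R := R))
  choose Wn hWn hzn using fun n => htz _ (hz₀ n)
  obtain ⟨W, hWinf⟩ : ∃ W, ({n | Wn n = W} : Set ℕ).Infinite := by
    obtain ⟨⟨W, hW⟩, hWinf⟩ := Finite.exists_infinite_fiber (fun n => (⟨Wn n, hWn n⟩ : t))
    exact ⟨W, (Set.infinite_coe_iff.1 hWinf).mono fun n (hn : (⟨Wn n, hWn n⟩ : t) = ⟨W, hW⟩) => congrArg Subtype.val hn⟩
  obtain ⟨n₀, hn₀⟩ := hWinf.nonempty
  have hWV : W.1 ≤ G.hom ⁻¹ᵁ V := htV W (hn₀ ▸ hWn n₀)
  have chart : ∀ n, Wn n = W → ∃ c : LocCoord b u x W.2 n, red c.g ≠ 0 := by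
    intro n hn
    obtain ⟨c, hc⟩ := exists_locCoord W.2 n z (hn ▸ hzn n)
    refine ⟨c, fun h0 => hc ?_⟩
    show ε c.g ∈ IsLocalRing.maximalIdeal k
    rw [hεeq, h0, map_zero]
    exact zero_mem _
  obtain ⟨c₀, hc₀⟩ := chart n₀ hn₀
  have hg₀ : c₀.g ≠ 0 := fun h0 => hc₀ (by rw [h0, map_zero])
  choose E hE hbad using exists_bad χ hχ hx W.2 c₀ hg₀
  have hft : (G.hom.appLE V W.1 hWV).hom.FiniteType := G.hom.finiteType_appLE hV W.2 hWV
  obtain ⟨gens, hgens⟩ : ∃ gens : Finset Γ(G.left, W.1), Subring.closure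
      (Set.range (G.hom.appLE V W.1 hWV).hom ∪ (gens : Set Γ(G.left, W.1))) = ⊤ := by
    letI := (G.hom.appLE V W.1 hWV).hom.toAlgebra
    obtain ⟨gens, h⟩ := (hft : Algebra.FiniteType Γ(S, V) Γ(G.left, W.1)).out
    refine ⟨gens, ?_⟩
    have h2 := Algebra.adjoin_eq_ring_closure (R := Γ(S, V)) (gens : Set Γ(G.left, W.1))
    rw [h, Algebra.top_toSubring] at h2
    exact h2.symm
  obtain ⟨n, hn, hnB⟩ := (hWinf.sdiff ((Set.finite_lt_nat n₀).union
    ((gens.finite_toSet.biUnion fun a _ => hE a).image fun d => n₀ + d))).nonempty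
  obtain ⟨d, rfl⟩ := Nat.exists_eq_add_of_le (le_of_not_gt fun h : n < n₀ => hnB (Or.inl h))
  obtain ⟨c, hc⟩ := chart (n₀ + d) hn
  -- two generic points of the special fibre
  let NN := Multiplicative M × Multiplicative M
  let L := FractionRing (MonoidAlgebra k NN)
  let emb : (Multiplicative M →* NN) → (MonoidAlgebra k (Multiplicative M) →+* L) := fun j =>
    (algebraMap _ L).comp (MonoidAlgebra.mapDomainRingHom k j)
  let ψ : (Multiplicative M →* NN) → (B →ₐ[R] L) := fun j => MonoidAlgebra.lift R L (Multiplicative M)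
    ((algebraMap (MonoidAlgebra k NN) L : MonoidAlgebra k NN →* L).comp ((MonoidAlgebra.of k NN).comp j))
  have hψ : ∀ j p, ψ j p = emb j (red p) := by
    intro j p
    induction p using MonoidAlgebra.induction_linear with
    | zero => simp
    | add p q hp hq => rw [map_add, map_add, map_add, hp, hq]
    | single m r =>
      rw [show ψ j (MonoidAlgebra.single m r) = r • algebraMap (MonoidAlgebra k NN) L (MonoidAlgebra.single (j m) 1)
        from MonoidAlgebra.lift_single _ _ _, Algebra.smul_def,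
        IsScalarTower.algebraMap_apply R (MonoidAlgebra k NN) L, ← map_mul]
      show _ = algebraMap (MonoidAlgebra k NN) L (MonoidAlgebra.mapDomainRingHom k j
        (MonoidAlgebra.mapRingHom _ (IsLocalRing.residue R) _))
      rw [MonoidAlgebra.mapRingHom_single, MonoidAlgebra.mapDomainRingHom_apply, MonoidAlgebra.mapDomain_single,
        MonoidAlgebra.coe_algebraMap, Function.comp_apply, MonoidAlgebra.single_mul_single, _root_.one_mul,
        _root_.mul_one]
      rfl
  have hunit : ∀ j : Multiplicative M →* NN, Function.Injective j → IsUnit (ψ j c.g) := fun j hj =>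
    isUnit_iff_ne_zero.2 fun h0 => hc (MonoidAlgebra.mapDomain_injective hj
      ((IsFractionRing.injective _ L ((hψ j c.g).symm.trans (h0.trans (map_zero _).symm))).trans
        (map_zero (MonoidAlgebra.mapDomainRingHom k j)).symm))
  let θ : ∀ j : Multiplicative M →* NN, Function.Injective j → (Localization.Away c.g →+* L) := fun j hj =>
    Localization.awayLift (ψ j).toRingHom c.g (hunit j hj)
  have hθ : ∀ j hj q, θ j hj (algebraMap B _ q) = ψ j q := fun j hj q => IsLocalization.Away.lift_eq c.g _ q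
  have hpt : ∀ j hj, Spec.map (c.f ≫ CommRingCat.ofHom (θ j hj)) ≫ W.2.fromSpec =
      (mor b (ψ j) ≫ univPt b u x (n₀ + d)).left := by
    intro j hj
    rw [Spec.map_comp, Category.assoc, c.fac, ← Category.assoc, ← Spec.map_comp, Over.comp_left,
      ← CommRingCat.ofHom_comp]
    exact congrArg (fun r => Spec.map (CommRingCat.ofHom r) ≫ (univPt b u x (n₀ + d)).left) (RingHom.ext (hθ j hj))
  have hi₁ : Function.Injective (MonoidHom.inl (Multiplicative M) (Multiplicative M)) :=
    fun a b h => congrArg Prod.fst h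
  have hi₂ : Function.Injective (MonoidHom.inr (Multiplicative M) (Multiplicative M)) :=
    fun a b h => congrArg Prod.snd h
  have hbase : G.hom.appLE V W.1 hWV ≫ c.f ≫ CommRingCat.ofHom (θ _ hi₁) =
      G.hom.appLE V W.1 hWV ≫ c.f ≫ CommRingCat.ofHom (θ _ hi₂) := by
    apply Spec.map_injective
    rw [← cancel_mono hV.fromSpec]
    have e : ∀ j hj, Spec.map (G.hom.appLE V W.1 hWV ≫ c.f ≫ CommRingCat.ofHom (θ j hj)) ≫ hV.fromSpec =
        (X b L).hom := by
      intro j hj
      rw [Spec.map_comp, Category.assoc, IsAffineOpen.SpecMap_appLE_fromSpec _ hV W.2 hWV, ← Category.assoc, hpt j hj]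
      exact Over.w _
    rw [e _ hi₁, e _ hi₂]
  have hall : c.f ≫ CommRingCat.ofHom (θ _ hi₁) = c.f ≫ CommRingCat.ofHom (θ _ hi₂) := by
    apply CommRingCat.hom_ext
    refine RingHom.ext fun a => ?_
    have hle : Subring.closure (Set.range (G.hom.appLE V W.1 hWV).hom ∪ (gens : Set Γ(G.left, W.1))) ≤
        RingHom.eqLocus (c.f ≫ CommRingCat.ofHom (θ _ hi₁)).hom (c.f ≫ CommRingCat.ofHom (θ _ hi₂)).hom := by
      rw [Subring.closure_le]
      rintro y (⟨y, rfl⟩ | hy)
      · exact congrArg (fun q => q.hom y) hbase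
      · obtain ⟨r, l, p, hp, hr⟩ := hbad y d (fun hh => hnB (Or.inr ⟨d, Set.mem_biUnion hy hh, rfl⟩)) c hc
        have e : ∀ j hj, θ j hj (c.f y) = algebraMap (MonoidAlgebra k NN) L (MonoidAlgebra.single 1 r) := by
          intro j hj
          have h1 := congrArg (θ j hj) hp
          rw [map_mul, map_pow, hθ j hj, hθ j hj, hψ j p, hr, ← map_pow (ψ j), hψ j (c.g ^ l)] at h1
          have hc' : ∀ w, emb j (r • w) =
              algebraMap (MonoidAlgebra k NN) L (MonoidAlgebra.single 1 r) * emb j w := by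
            intro w
            rw [Algebra.smul_def, map_mul]
            congr 1
            simp [emb, MonoidAlgebra.coe_algebraMap]
            rfl
          rw [hc'] at h1
          refine mul_right_cancel₀ ?_ h1
          rw [← hψ, map_pow]
          exact pow_ne_zero _ (hunit j hj).ne_zero
        exact (e _ hi₁).trans (e _ hi₂).symm
    exact hle (hgens.ge (Subring.mem_top a))
  have heq : mor b (ψ (MonoidHom.inl _ _)) ≫ univPt b u x (n₀ + d) =
      mor b (ψ (MonoidHom.inr _ _)) ≫ univPt b u x (n₀ + d) :=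
    Over.OverMorphism.ext (by rw [← hpt _ hi₁, ← hpt _ hi₂, hall])
  rw [univPt_nat, univPt_nat] at heq
  have hχeq := ((stdChart b M).bij L).1 ((cancel_mono u).1 (mul_left_cancel heq))
  intro m
  have h1 := DFunLike.congr_fun hχeq m
  simp only [MonoidHom.comp_apply, MonoidHom.coe_coe, ψ, MonoidAlgebra.lift_of] at h1
  have h2 := IsFractionRing.injective (MonoidAlgebra k NN) L h1
  simp only [MonoidAlgebra.of_apply] at h2
  exact congrArg Prod.fst (MonoidAlgebra.single_left_injective (one_ne_zero (α := k)) h2)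

end Groth.L25.MonoClosed
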